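import Cfsg.Agent.OM.Cov
import Cfsg.Agent.OM.Alt.Base
import Cfsg.Agent.BZ.S1.Eng
import Cfsg.Agent.PQ.Spor.Tabs
import Cfsg.Agent.KM.Sp.Eng

/-!
# OM, simple sporadic groups: the engine for tables (helper88)

An anchor is the trivial character, or two members of its block have different mean values on the elements of some order.

* `No S` : a block with large defect and `OneA` is principal; `no_of` : the check; `od_of` : characteristic classes.
-/

set_option autoImplicit false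
set_option linter.unusedSectionVars false

namespace Cfsg.Agent.OM.Sp1

open Cfsg Subgroup Cfsg.Agent.TAB.Eng Cfsg.Agent.TAB.Use Cfsg.Agent.BZ.S1 Cfsg.Agent.OM.Alt Cfsg.Agent.PQ.Spor

/-- the exponent of the threshold -/
def th (p : ℕ) : ℕ := if p = 2 then 5 else if p = 3 then 3 else if p = 5 then 3 else 2

theorem thr_eq (p : ℕ) : Thr p = p ^ th p := by
  unfold Thr th
  split_ifs with h2 h3 h5
  · rw [h2]; rfl
  · rw [h3]; rfl
  · rw [h5]; rfl
  · rfl

theorem th_ne (p : ℕ) : th p ≠ 0 := by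
  unfold th
  split_ifs <;> decide

/-- the sum over the elements of order `o` -/
noncomputable def so (D : Dat) (o : ℕ) (w : List ℤ) : ℤ :=
  ∑ t ∈ Finset.range D.n, (D.cnt t : ℤ) * if D.ord t = o then nth w t else 0

/-- the check of an anchor; `j₁` is the order, `j₂` the second relation -/
noncomputable def anB (D : Dat) (R : Rows) (p : ℕ) (c : An) (l : List (ℕ × ℤ)) : Bool :=
  decide (c.k < R.n) && BZ.S1.expB D R p c && (R.rel[c.i]?).any fun r =>
    ((List.range D.n).all fun t => nth r.2 t == 1) ||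
      (c.j₁ % p != 0 && (R.rel[c.j₂]?).any fun s => s.1.any fun q => s.1 == [(q.1, 1)] && decide (q.1 < R.n) &&
        cof l q.1 != 0 && so D c.j₁ r.2 * R.d q.1 != so D c.j₁ s.2 * R.d c.k)

/-- the check of a prime: the anchors cover the list -/
noncomputable def prB (D : Dat) (R : Rows) (p : ℕ) (A : List An) : List ℕ → Bool :=
  List.rec (fun L => L.isEmpty) (fun c _ ih L => frcP (cns R c.a) fun l => anB D R p c l &&
    frcL (L.filter fun j => cof l j == 0) ih) A

theorem prB_spec {D : Dat} {R : Rows} {p : ℕ} {A : List An} {L : List ℕ} (h : prB D R p A L = true) {j : ℕ}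
    (hj : j ∈ L) : ∃ c : An, anB D R p c (cns R c.a) = true ∧ cof (cns R c.a) j ≠ 0 := by
  induction A generalizing L with
  | nil => exact absurd (List.isEmpty_iff.1 h ▸ hj) List.not_mem_nil
  | cons c A ih =>
    have h1 := (frcP_eq _ _).symm.trans h
    rw [Bool.and_eq_true, frcL_eq] at h1
    by_contra h2
    refine h2 (ih h1.2 (List.mem_filter.2 ⟨hj, ?_⟩))
    rw [beq_iff_eq]
    exact by_contra fun h3 => h2 ⟨c, h1.1, h3⟩

/-- the check of a table -/
noncomputable def tabB (D : Dat) (R : Rows) (C : List (ℕ × List An)) : Bool :=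
  D.N != 0 && PL.prod ^ 50 % D.N == 0 && (R.rel.all fun r => r.1.all fun q => decide (q.1 < R.n)) &&
    PL.all fun p => D.N % p ^ th p != 0 || C.any fun c => c.1 == p && prB D R p c.2
      ((List.range R.n).filter fun j => decide (padicValNat p (R.d j) + th p ≤ padicValNat p D.N))

/-- the same after the evaluation of the table -/
noncomputable def tabF (D : Dat) (R : Rows) (C : List (ℕ × List An)) : Bool :=
  frcL R.deg fun dg => frcR R.rel fun rl => tabB D ⟨dg, rl⟩ C

theorem tabF_eq (D : Dat) (R : Rows) (C : List (ℕ × List An)) : tabF D R C = tabB D R C :=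
  (frcL_eq _ _).trans (frcR_eq _ _)

variable {G : Type} [Group G] [Finite G] {D : Dat} {T : TD G D} {R : Rows} {χ : ℕ → G → ℂ} {p : ℕ} [hp : Fact p.Prime]
  {M : Ideal AlgInt} {B : Set (IrrCharacter G)}

theorem ks_row (hm : T.Mass) {φ : G → ℂ} {w : List ℤ} (h : ∀ g, φ g = ((w.getD (T.ty g) 0 : ℤ) : ℂ)) (o : ℕ) :
    ks {x | orderOf x = o} φ = so D o w := by
  classical
  have := Fintype.ofFinite G
  rw [ks_eq, so, Int.cast_sum]
  refine (Finset.sum_congr rfl fun g _ => ?_).trans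
    ((sum_mass hm fun t => ((if D.ord t = o then nth w t else 0 : ℤ) : ℂ)).trans
      (Finset.sum_congr rfl fun t _ => by rw [nsmul_eq_mul, Int.cast_mul, Int.cast_natCast]))
  simp only [Set.mem_ofPred_eq, T.ord, h, nth_eq, Int.cast_ite, Int.cast_zero]

theorem no_of_pr (hm : T.Mass) (h : Tab T R) (hl : ∀ r ∈ R.rel, ∀ q ∈ r.1, q.1 < R.n) (hM : IsPModular p M)
    (hB : IsPBlock M B) (h3 : th p ≤ blockDefect p B) (h1 : OneA p B) {A : List An}
    (hc : prB D R p A ((List.range R.n).filter fun j => decide (padicValNat p (R.d j) + th p ≤ padicValNat p D.N)) = true) :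
    ∃ θ ∈ B, ∀ x, (θ : G → ℂ) x = 1 := by
  have := hM.2.1.isPrime
  obtain ⟨χ, hE, hR⟩ := h
  obtain ⟨⟨θ, hθ⟩, h2, h0⟩ := Blocks.HeightZeroSection.exists_height_zero (Blocks.Basic.isPBlock_nonempty hB) p
  obtain ⟨j, hj, rfl⟩ := hE.all θ hθ
  have h4 : padicValNat p (R.d j) + th p ≤ padicValNat p D.N := by
    have h5 := th_ne p
    rw [blockDefect, hm.1, Nat.factorization_def _ hp.out] at h3
    rw [blockHeight, hE.charDegree_eq hj, Nat.factorization_def _ hp.out] at h0
    omega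
  obtain ⟨c, h8, h6⟩ := prB_spec hc (List.mem_filter.2 ⟨List.mem_range.2 hj, decide_eq_true h4⟩)
  simp only [anB, Bool.and_eq_true, Bool.or_eq_true, decide_eq_true_eq, bne_iff_ne, beq_iff_eq, Option.any_eq_true,
    List.all_eq_true, List.any_eq_true, List.mem_range] at h8
  obtain ⟨⟨a1, a2⟩, r, a3, a4⟩ := h8
  have b1 := (link hE hR hl hM hB a1 a2 hj h6).1 h2
  have a5 := a2
  simp only [BZ.S1.expB, Option.any_eq_true, Bool.and_eq_true, beq_iff_eq] at a5
  obtain ⟨r', a6, a7, -⟩ := a5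
  obtain rfl : r = r' := Option.some.inj (a3.symm.trans a6)
  have b2 := hR.row (List.mem_of_getElem? a3) a7
  rcases a4 with a4 | ⟨a4, s, a8, q, -, ⟨⟨a9, a10⟩, a11⟩, a12⟩
  · exact ⟨_, b1, fun x => (b2 x).trans (by rw [← nth_eq, a4 _ (T.lt x), Int.cast_one])⟩
  · have b3 := h1 {x | orderOf x = c.j₁} (fun α x hx => (MulEquiv.orderOf_eq α x).trans hx)
      (fun x hx h7 => a4 (Nat.mod_eq_zero_of_dvd ((show orderOf x = c.j₁ from hx) ▸ h7))) _ b1 _
      ((link hE hR hl hM hB a1 a2 a10 a11).2 b1)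
    simp only [ks_row hm b2, ks_row hm (hR.row (List.mem_of_getElem? a8) a9), hE.deg _ a1, hE.deg _ a10] at b3
    exact absurd (by exact_mod_cast b3) a12

/-- a block with large defect and `OneA` is principal -/
def No (S : Type) [Group S] : Prop :=
  ∀ (p : ℕ) [Fact p.Prime] (G : Type) [Group G] [Finite G], G ≃* S → ∀ M : Ideal AlgInt, IsPModular p M →
    ∀ B : Set (IrrCharacter G), IsPBlock M B → th p ≤ blockDefect p B → OneA p B → ∃ θ ∈ B, ∀ x, (θ : G → ℂ) x = 1

/-- **the check of a table** -/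
theorem no_of {S : Type} [Group S] (h : HasT S D R) (C : List (ℕ × List An)) (hc : tabF D R C = true) : No S :=
  fun p hp G _ _ f _ hM _ hB h3 h1 => by
  obtain ⟨T, hm, h⟩ := h.pull f
  rw [tabF_eq] at hc
  simp only [tabB, Bool.and_eq_true, List.all_eq_true, Bool.or_eq_true, decide_eq_true_eq, List.any_eq_true, bne_iff_ne,
    beq_iff_eq] at hc
  have h2 : p ^ th p ∣ D.N := hm.1 ▸ (hp.out.pow_dvd_iff_le_factorization Nat.card_pos.ne').2 (h3.trans (Nat.sub_le _ _))
  obtain ⟨c, -, -, h4⟩ := (hc.2 p (mem_PL hc.1.1.2 hp.out ((dvd_pow_self p (th_ne p)).trans h2))).resolve_left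
    fun h4 => h4 (Nat.mod_eq_zero_of_dvd h2)
  exact no_of_pr hm h hc.1.2 hM hB h3 h1 h4

section

variable {Γ : Subgroup (MulAut G)} {E : Subgroup G} {S : Type} [Group S] {σ : G →* S}

/-- the quotient by a trivial centre -/
noncomputable def iso (H : Hyp p M Γ B E σ) (h : Nat.card (center G) = 1) : G ≃* S :=
  MulEquiv.ofBijective σ ⟨(MonoidHom.ker_eq_bot_iff σ).1 (H.ker.trans (card_eq_one.1 h)), H.surj⟩

theorem No.cov (h : No S) (p : ℕ) [hp : Fact p.Prime] : Cov 1 p S := fun X _ _ _ M _ b E H h1 h2 => by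
  rw [thr_eq, S0908.result p M H.hM b H.hb E H.hD, Nat.pow_dvd_pow_iff_le_right hp.out.one_lt] at h2
  obtain ⟨θ, h3, h4⟩ := h p X (iso H h1) M H.hM b H.hb h2 (oneA_of_one H.one)
  obtain ⟨x, hx⟩ := H.np θ h3
  exact absurd (h4 x) hx

/-- with a trivial centre, `RegTriv` gives the principal block -/
theorem not_rt (H : Hyp p M Γ B E σ) (h : Nat.card (center G) = 1) : ¬ BHZ.Spor.RegTriv p (E.map σ) := fun hrt => by
  have C : BZ.T.Ce p σ := ⟨H.surj, H.ker.le, H.ker ▸ H.sit.ndvd⟩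
  obtain ⟨ψ, hψ, h1⟩ := C.max_of_rt H.hM H.hb H.hD hrt
  let χ : IrrCharacter G := ⟨fun _ => 1, Characters.Core.isIrr_one⟩
  have h3 : charDegree (χ : G → ℂ) = 1 := Blocks.Basic.charDegree_of_eq (n := 1) Nat.cast_one.symm
  obtain ⟨x, hx⟩ := H.np χ (Blocks.Covering.mem_of_sameBlock (Blocks.Local.isPrime_of_isPModular H.hM) H.hb hψ
    (C.same0 H.hM ⟨_, H.pg.map σ, hrt⟩ h1 (h3 ▸ hp.out.not_dvd_one) fun z hz => by
      rw [show z = 1 from mem_bot.1 (card_eq_one.1 h ▸ H.ker.le hz), div_self (Characters.Core.isIrr_apply_one_ne_zero ψ.2),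
        div_self (Characters.Core.isIrr_apply_one_ne_zero χ.2)]))
  exact hx rfl

end

/-- a characteristic class -/
theorem od_of (hm : T.Mass) {t c : ℕ} (ht : t < D.n) (h0 : 0 < D.cnt t) (h1 : ∀ i < D.n, D.ord i = D.ord t → i = t)
    (hc : Odd c) (h2 : D.cnt t * c ≤ D.N) (h3 : ∀ x, T.ty x = t → Nat.card (centralizer ({x} : Set G)) ∣ c) : Lo.Od G := by
  obtain ⟨⟨x, hx⟩⟩ := (Nat.card_pos_iff.1 ((hm.2 t ht).symm ▸ h0 : 0 < Nat.card {g : G // T.ty g = t})).1
  refine ⟨x, hc.of_dvd_nat (h3 x hx), fun y hy => TD.single hm.le ?_ ((h1 _ (T.lt y) ?_).trans hx.symm)⟩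
  · rw [hx, hm.1]
    exact (Nat.mul_le_mul_left _ (Nat.le_of_dvd hc.pos (h3 x hx))).trans h2
  · rw [← T.ord, hy, T.ord, hx]

theorem cent_dvd {x : G} {r : ℕ} (hr : r.Prime) (hx : orderOf x = r) (h : ∀ y : G, r ∣ orderOf y → orderOf y = r)
    (h2 : ¬ r ^ 2 ∣ Nat.card G) : Nat.card (centralizer ({x} : Set G)) ∣ r := by
  have h3 := Nat.eq_prime_pow_of_unique_prime_dvd (n := Nat.card (centralizer ({x} : Set G))) (p := r) Nat.card_pos.ne'
    fun {s} hs h4 => by
      have := Fact.mk hs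
      obtain ⟨y, hy⟩ := exists_prime_orderOf_dvd_card' s h4
      rw [← orderOf_coe] at hy
      by_contra h5
      have h6 := (show Commute x y from (mem_centralizer_singleton_iff.1 y.2).symm).orderOf_mul_eq_mul_orderOf_of_coprime
        (by rw [hx, hy]; exact (Nat.coprime_primes hr hs).2 (Ne.symm h5))
      rw [hx, hy] at h6
      exact hs.ne_one (Nat.eq_of_mul_eq_mul_left hr.pos (h6.symm.trans ((h _ (h6 ▸ dvd_mul_right r s)).trans
        (mul_one r).symm)))
  rw [h3]
  refine (pow_dvd_pow r (not_lt.1 fun h4 => h2 ?_)).trans (pow_one r).dvd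
  exact (pow_dvd_pow r h4).trans (h3 ▸ card_subgroup_dvd_card _)

/-- a class of elements of prime order -/
theorem od_prime {S : Type} [Group S] [Finite S] (h : HasT S D R) {t r : ℕ} (hr : r.Prime) (h2 : r ≠ 2)
    (hc : t < D.n ∧ 0 < D.cnt t ∧ D.ord t = r ∧ (∀ i < D.n, r ∣ D.ord i → i = t) ∧ D.cnt t * r ≤ D.N ∧ ¬ r ^ 2 ∣ D.N) :
    Lo.Od S := by
  obtain ⟨T, hm, -⟩ := h
  obtain ⟨a1, a2, a3, a4, a5, a6⟩ := hc
  exact od_of hm a1 a2 (fun i hi h => a4 i hi (h.trans a3).symm.dvd) (hr.odd_of_ne_two h2) a5 fun x hx =>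
    cent_dvd hr (by rw [T.ord, hx, a3]) (fun y hy => by rw [T.ord, a4 _ (T.lt y) (T.ord y ▸ hy), a3]) (hm.1 ▸ a6)

end Cfsg.Agent.OM.Sp1
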