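import Cfsg.Agent.OM.Sp.OneC
import Cfsg.Agent.BZ.T.Loc
import Cfsg.Agent.TAB.J3.Main
import Cfsg.Agent.H305.OddJ3
import Cfsg.Agent.H867.TitsOut

/-!
# OM, simple sporadic groups and the Tits group (helper88)

The fields `one`, `od_j2`, `od_hs`, `od_suz`, `od_fi22`, `out_tits` of `OM.Sp`.
-/

set_option autoImplicit false
set_option maxRecDepth 100000

namespace Cfsg.Agent.OM.Sp1

open Cfsg Subgroup Cfsg.Agent.TAB Cfsg.Agent.PQ.Spor

theorem cov_J1 (p : ℕ) [Fact p.Prime] {S : Type} [Group S] (h : Spor.IsoJ1 S) : Cov 1 p S := fun _ _ _ _ _ _ _ _ H _ h2 => by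
  have h3 := h2.trans H.dvd_card
  rw [NotCT.Orders.j1 h] at h3
  rcases small_prime h3 (by decide +kernel) with rfl | rfl | rfl | rfl | rfl | rfl | rfl | rfl | rfl | rfl | rfl | rfl
  all_goals exact absurd h3 (by decide +kernel)

theorem cov_J3 (p : ℕ) [hp : Fact p.Prime] {S : Type} [Group S] [Finite S] (h : Spor.IsoJ3 S) : Cov 1 p S :=
  fun _ _ _ σ _ _ _ D H h1 h2 => by
  have hN := J3.card_eq h
  have hR : ∀ d : ℕ, (p ≠ 2 → ¬ p ^ d ∣ 1920) → (p ≠ 3 → ¬ p ^ d ∣ 1080 ∧ ¬ p ∣ 3 ^ 5 ∧ d ≠ 0) → ¬ p ^ d ∣ 30 →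
      ¬ p ^ d ∣ 17 → ¬ p ^ d ∣ 19 → BZ.T.Reg p d S := fun d a2 a3 a5 a17 a19 => BZ.T.reg_of_prime fun y hy h3 => by
    rcases H898.J3Cent.prime_dvd_card hy ((orderOf_dvd_natCard y).trans hN.dvd) with h2 | h2 | h2 | h2 | h2
    · exact ((H898.J3Cent.base h).2.2 y h2).2.1 ▸ a2 (h2 ▸ h3).symm
    · obtain ⟨b1, b2, b3⟩ := a3 (h2 ▸ h3).symm
      exact (H305.OddJ3.cent_three h h2).elim (fun h4 => h4 ▸ b1) fun h4 h5 => b2 ((dvd_pow_self p b3).trans (h5.trans h4))
    · exact (H296.JT.cn5 h h2).1 ▸ a5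
    · exact (H898.J3Cent.seventeen h h2).1 ▸ a17
    · exact H898.J3Cent.card_nineteen h h2 ▸ a19
  have C : BZ.T.Ce p σ := ⟨H.surj, H.ker.le, H.ker ▸ H.sit.ndvd⟩
  have h3 := h2.trans H.dvd_card
  rw [hN] at h3
  refine (not_rt H h1 ?_).elim
  rcases small_prime h3 (by decide +kernel) with rfl | rfl | rfl | rfl | rfl | rfl | rfl | rfl | rfl | rfl | rfl | rfl
  · exact C.rt_of_reg (hR 5 (absurd rfl) (fun _ => by decide) (by decide) (by decide) (by decide)) h2
  · exact C.rt_of_reg (hR 3 (fun _ => by decide) (absurd rfl) (by decide) (by decide) (by decide)) h2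
  all_goals exact absurd h3 (by decide +kernel)

theorem No.cov' {S T : Type} [Group S] [Group T] (h : No T) (p : ℕ) [Fact p.Prime] (e : S ≃* T) : Cov 1 p S :=
  .of_equiv e (h.cov p)

/-- **the simple sporadic groups and the Tits group** -/
theorem one : ∀ (p : ℕ) [Fact p.Prime] (S : Type) [Group S] [Finite S], IsSporadicGroup S ∨ Lie.IsoTits S → Cov 1 p S := by
  intro p _ S _ _ h
  rcases h with (h | h | h | h | h | h | h | h | h | h | h | h | h | h | h | h | h | h | h | h | h | h | h | h | h | h) | h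
  exacts [h.elim (nM11.cov' p), h.elim (nM12.cov' p), h.elim (nM22.cov' p), h.elim (nM23.cov' p), h.elim (nM24.cov' p),
    cov_J1 p h, h.elim (nJ2.cov' p), cov_J3 p h, h.elim (nJ4.cov' p), h.elim (nCo1.cov' p), h.elim (nCo2.cov' p),
    h.elim (nCo3.cov' p), h.elim (nMcL.cov' p), h.elim (nHS.cov' p), h.elim (nSuz.cov' p), h.elim (nHe.cov' p),
    h.elim (nRu.cov' p), h.elim (nON.cov' p), h.elim (nLy.cov' p), h.elim (nFi22.cov' p), h.elim (nFi23.cov' p),
    h.elim (nFi24.cov' p), h.elim (nHN.cov' p), h.elim (nTh.cov' p), h.elim (nB.cov' p), h.elim (nM.cov' p),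
    (nTits h).cov p]

theorem od_j2 : ∀ (S : Type) [Group S] [Finite S], Spor.IsoJ2 S → Lo.Od S := fun _ _ _ ⟨e⟩ =>
  od_prime (tJ2.pull e) (t := 10) (r := 7) (by norm_num) (by norm_num) (by decide +kernel)

theorem od_hs : ∀ (S : Type) [Group S] [Finite S], Spor.IsoHS S → Lo.Od S := fun _ _ _ ⟨e⟩ =>
  od_prime (tHS.pull e) (t := 12) (r := 7) (by norm_num) (by norm_num) (by decide +kernel)

theorem od_suz : ∀ (S : Type) [Group S] [Finite S], Spor.IsoSuz S → Lo.Od S := fun _ _ _ ⟨e⟩ =>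
  od_prime (tSuz.pull e) (t := 9) (r := 11) (by norm_num) (by norm_num) (by decide +kernel)

theorem od_fi22 : ∀ (S : Type) [Group S] [Finite S], Spor.IsoFi22 S → Lo.Od S := fun _ _ _ ⟨e⟩ => by
  obtain ⟨T, hm, h⟩ := tFi22.pull e
  refine od_of hm (t := 54) (c := 21) (by decide) (by decide +kernel) (by decide +kernel) (by decide) (by decide +kernel)
    fun x hx => ?_
  have h1 := KM.Sp.card_dvd_cbg (KM.Sp.Hy.nil hm h) x [52, 43, 7]
  rwa [hx, show KM.Sp.cbg F22.dat (Sm2.mkRows F22.rowA F22.rowB) [] 54 [52, 43, 7] = 21 by decide +kernel] at h1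

theorem out_tits : ∀ (S : Type) [Group S] [Finite S], Lie.IsoTits S → Nat.card (Out S) ∣ 2 := fun S _ _ h => by
  have h1 := H867.TitsOut.card_out_le h
  have : Finite (MulAut S) := Finite.of_injective (fun α : MulAut S => (α : S → S)) DFunLike.coe_injective
  have h2 : 0 < Nat.card (Out S) := Nat.card_pos
  generalize Nat.card (Out S) = k at h1 h2
  interval_cases k <;> norm_num

end Cfsg.Agent.OM.Sp1
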